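import Mathlib

/-!
A point stabiliser is maximal when no proper union of its orbits has a size dividing the number
of points of the orbit.
-/

set_option autoImplicit false

namespace Cfsg.Agent.G24J2

open MulAction

variable {G : Type*} [Group G] {X : Type*} [MulAction G X] [Finite X]

theorem ncard_union_classes (f : X → ℕ) (size : ℕ → ℕ) (A : Finset ℕ)
    (h : ∀ c ∈ A, {x | f x = c}.ncard = size c) : {x | f x ∈ A}.ncard = ∑ c ∈ A, size c := by
  classical
  induction A using Finset.induction with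
  | empty => simp
  | @insert c A hc ih =>
    rw [Finset.sum_insert hc, ← h c (Finset.mem_insert_self c A),
      ← ih fun d hd => h d (Finset.mem_insert_of_mem hd)]
    rw [show {x | f x ∈ insert c A} = {x | f x = c} ∪ {x | f x ∈ A} by ext x; simp]
    refine Set.ncard_union_eq ?_ (Set.toFinite _) (Set.toFinite _)
    rw [Set.disjoint_left]
    exact fun x hx hx' => hc ((show f x = c from hx) ▸ hx')

/-- Maximality of a stabiliser from the sizes of its orbits. -/
theorem isCoatom_stabilizer (q : X) (f : X → ℕ) (m : ℕ) (size : ℕ → ℕ)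
    (hclass : ∀ x, x ∈ orbit G q ↔ f x < m)
    (hsize : ∀ c < m, {x | f x = c}.ncard = size c)
    (hconn : ∀ c < m, ∃ r : X, ∀ x, f x = c → ∃ k : G, k • q = q ∧ k • r = x)
    (h0 : f q = 0) (h1 : size 0 = 1) (hm : 1 < m) (hpos : size 1 ≠ 0)
    (hdiv : ∀ A ∈ (Finset.range m).powerset, 0 ∈ A →
      (∑ c ∈ A, size c) ∣ (∑ c ∈ Finset.range m, size c) → A = {0} ∨ A = Finset.range m) :
    IsCoatom (stabilizer G q) := by
  classical
  refine ⟨?_, fun L hL => ?_⟩
  · intro htop
    obtain ⟨x, hx⟩ : {x | f x = 1}.Nonempty :=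
      Set.nonempty_of_ncard_ne_zero (by rw [hsize 1 hm]; exact hpos)
    obtain ⟨g, rfl⟩ := (hclass x).mpr (by rw [show f x = 1 from hx]; omega)
    have : g • q = q := mem_stabilizer_iff.mp (htop ▸ Subgroup.mem_top g)
    simp [this, h0] at hx
  have hsat : ∀ x y, f x < m → f y = f x → x ∈ orbit L q → y ∈ orbit L q := by
    intro x y hx hxy hmem
    obtain ⟨r, hr⟩ := hconn _ hx
    obtain ⟨k₁, hk₁, rfl⟩ := hr x rfl
    obtain ⟨k₂, hk₂, rfl⟩ := hr y hxy
    obtain ⟨l, hl⟩ := hmem
    have hl' : (l : G) • q = k₁ • r := hl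
    refine ⟨⟨k₂ * k₁⁻¹ * l, ?_⟩, ?_⟩
    · exact mul_mem (mul_mem (hL.le hk₂) (inv_mem (hL.le hk₁))) l.2
    · show (k₂ * k₁⁻¹ * (l : G)) • q = k₂ • r
      rw [mul_smul, mul_smul, hl', inv_smul_smul]
  let A : Finset ℕ := (Finset.range m).filter fun c => ∃ x ∈ orbit L q, f x = c
  have hLA : orbit L q = {x | f x ∈ A} := by
    ext x
    simp only [A, Set.mem_ofPred_eq, Finset.mem_filter, Finset.mem_range]
    constructor
    · intro hx
      refine ⟨(hclass x).mp ?_, x, hx, rfl⟩
      obtain ⟨l, rfl⟩ := hx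
      exact ⟨(l : G), rfl⟩
    · rintro ⟨hx, y, hy, hyx⟩
      exact hsat y x (hyx.symm ▸ hx) hyx.symm hy
  have hAsub : A ⊆ Finset.range m := Finset.filter_subset _ _
  have h0A : 0 ∈ A := Finset.mem_filter.mpr
    ⟨Finset.mem_range.mpr (by omega), q, mem_orbit_self q, h0⟩
  have hcardA : (orbit L q).ncard = ∑ c ∈ A, size c := by
    rw [hLA]
    exact ncard_union_classes f size A fun c hc => hsize c (Finset.mem_range.mp (hAsub hc))
  have hcardG : (orbit G q).ncard = ∑ c ∈ Finset.range m, size c := by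
    rw [← ncard_union_classes f size (Finset.range m) fun c hc => hsize c (Finset.mem_range.mp hc)]
    congr 1
    ext x
    rw [hclass x]
    simp
  have hdvd : (∑ c ∈ A, size c) ∣ ∑ c ∈ Finset.range m, size c := by
    rw [← hcardA, ← hcardG, ← index_stabilizer, ← index_stabilizer,
      show stabilizer L q = (stabilizer G q).subgroupOf L from rfl,
      ← Subgroup.relIndex_mul_index hL.le]
    exact dvd_mul_right _ _
  rcases hdiv A (Finset.mem_powerset.mpr hAsub) h0A hdvd with hA | hA
  · exfalso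
    refine hL.not_ge fun g hg => mem_stabilizer_iff.mpr ?_
    have hgq : g • q ∈ orbit L q := ⟨⟨g, hg⟩, rfl⟩
    rw [hLA, hA] at hgq
    simp only [Set.mem_ofPred_eq, Finset.mem_singleton] at hgq
    exact (Set.ncard_le_one (s := {x | f x = 0}) (Set.toFinite _)).mp
      (by rw [hsize 0 (by omega), h1]) _ hgq _ h0
  · rw [eq_top_iff]
    intro g _
    have hgq : g • q ∈ orbit L q := by
      rw [hLA, hA]
      exact Finset.mem_range.mpr ((hclass _).mp ⟨g, rfl⟩)
    obtain ⟨l, hl⟩ := hgq
    have hl' : (l : G) • q = g • q := hl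
    have : (l : G)⁻¹ * g ∈ stabilizer G q := by
      rw [mem_stabilizer_iff, mul_smul, ← hl', inv_smul_smul]
    simpa using mul_mem l.2 (hL.le this)

omit [Finite X] in
/-- Maximality of stabilisers passes along an orbit. -/
theorem isCoatom_stabilizer_of_mem_orbit {q p : X} (h : IsCoatom (stabilizer G q))
    (hp : p ∈ orbit G q) : IsCoatom (stabilizer G p) := by
  obtain ⟨g, rfl⟩ := hp
  rw [stabilizer_smul_eq_stabilizer_map_conj]
  exact ((MulAut.conj g).mapSubgroup.isCoatom_iff _).mpr h

end Cfsg.Agent.G24J2
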