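import Cfsg.Agent.G24J2.Abstract
import Cfsg.Agent.G24J2.Data
import Cfsg.Agent.SporB.Suz.Main
import Cfsg.Agent.Lib.Steiner.Ico.Iso
import Cfsg.Agent.Lib.CosetEnum.Glue

/-!
The Hall-Janko group as an extremely primitive point stabiliser in the subgroup of the Suzuki
group generated by six of its generators.
-/

set_option autoImplicit false
set_option maxRecDepth 100000

namespace Cfsg.Agent.G24J2

open Cfsg.Agent.CosetEnum MulAction
open Cfsg.Agent.CosetEnum.Suz (pres rep nodup)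

/-- The action on the 1782 points. -/
noncomputable def φ : pres.Gp →* Equiv.Perm (Fin Suz.Rep.tbl.n) := rep.hom nodup

noncomputable instance : MulAction pres.Gp (Fin Suz.Rep.tbl.n) := MulAction.compHom _ φ

theorem smul_def (g : pres.Gp) (i : Fin Suz.Rep.tbl.n) : g • i = φ g i := rfl

/-- Checker for an orbit decomposition. -/
noncomputable def okData (O : OrbitData) (ws : List (List ℕ)) (roots sizes : List ℕ) : Bool :=
  Nat.beq roots.length sizes.length &&
  ws.all (fun W => W.all fun l => Nat.blt l Suz.Rep.tbl.nl) &&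
  allRange (fun c => Nat.blt (roots.getD c 0) 1782 &&
    Nat.beq (O.getLab (roots.getD c 0)) c &&
    Nat.beq (countBelow (fun i => Nat.beq (O.getLab i) c) 1782) (sizes.getD c 0)) 0 roots.length &&
  allRange (fun i => allRange (fun c => O.checkPoint Suz.Rep.tbl ws c (roots.getD c 0) i)
    0 roots.length) 0 1782

theorem oh_ok : okData oh ohWords ohRoots ohSizes = true := by decide +kernel

theorem oa_ok : okData oa oaWords oaRoots oaSizes = true := by decide +kernel

theorem ob_ok : okData ob obWords obRoots obSizes = true := by decide +kernel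

theorem size_of_ok {O : OrbitData} {ws : List (List ℕ)} {roots sizes : List ℕ}
    (h : okData O ws roots sizes = true) {c : ℕ} (hc : c < roots.length) :
    {i : Fin Suz.Rep.tbl.n | O.getLab i = c}.ncard = sizes.getD c 0 := by
  simp only [okData, Bool.and_eq_true] at h
  have h2 := allRange_spec h.1.2 c (Nat.zero_le _) (by omega)
  simp only [Bool.and_eq_true] at h2
  refine Eq.trans ?_ (Nat.eq_of_beq_eq_true h2.2)
  show _ = countBelow (fun i => Nat.beq (O.getLab i) c) Suz.Rep.tbl.n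
  rw [← ncard_fin_filter]
  congr 1
  ext i
  exact ⟨fun h => (show O.getLab i = c from h) ▸ Nat.beq_refl c, Nat.eq_of_beq_eq_true⟩

/-- The subgroup generated by words. -/
def wordsSub (ws : List (List ℕ)) : Subgroup pres.Gp :=
  Subgroup.closure {g | ∃ W ∈ ws, evalWord pres.val W = g}

theorem conn_of_ok {O : OrbitData} {ws : List (List ℕ)} {roots sizes : List ℕ}
    (h : okData O ws roots sizes = true) {c : ℕ} (hc : c < roots.length) :
    ∃ r : Fin Suz.Rep.tbl.n, (r : ℕ) = roots.getD c 0 ∧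
      ∀ x : Fin Suz.Rep.tbl.n, O.getLab x = c ↔ ∃ k ∈ wordsSub ws, k • r = x := by
  simp only [okData, Bool.and_eq_true] at h
  have h2 := allRange_spec h.1.2 c (Nat.zero_le _) (by omega)
  simp only [Bool.and_eq_true] at h2
  obtain ⟨q, hq, him, -⟩ := rep.exists_orbit nodup Suz.Rep.descend ws h.1.1.2 (K := wordsSub ws) rfl
    O c (roots.getD c 0) (Nat.le_of_ble_eq_true h2.1.1) h2.1.2
    (fun i hi => allRange_spec (allRange_spec h.2 i (Nat.zero_le _) (by
      have : Suz.Rep.tbl.n = 1782 := rfl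
      omega)) c (Nat.zero_le _) (by omega))
  refine ⟨rep.point nodup q, hq, fun x => ?_⟩
  constructor
  · intro hx
    have hx' : x ∈ rep.point nodup '' orbit (wordsSub ws) q := by
      rw [him]
      exact hx ▸ Nat.beq_refl (O.getLab x)
    obtain ⟨_, ⟨k, rfl⟩, rfl⟩ := hx'
    exact ⟨k, k.2, (rep.point_smul nodup (k : pres.Gp) q).symm⟩
  · rintro ⟨k, hk, rfl⟩
    have hx' : k • rep.point nodup q ∈ rep.point nodup '' orbit (wordsSub ws) q :=
      ⟨(⟨k, hk⟩ : wordsSub ws) • q, mem_orbit _ _, rep.point_smul nodup k q⟩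
    rw [him] at hx'
    exact Nat.eq_of_beq_eq_true hx'

theorem fixes {ws : List (List ℕ)} {q : Fin Suz.Rep.tbl.n}
    (h : ws.all (fun W => W.all (fun l => Nat.blt l Suz.Rep.tbl.nl) &&
      Nat.beq (Suz.Rep.tbl.run W q) q) = true) :
    wordsSub ws ≤ stabilizer pres.Gp q := by
  rw [wordsSub, Subgroup.closure_le]
  rintro _ ⟨W, hW, rfl⟩
  have h2 := List.all_eq_true.mp h W hW
  simp only [Bool.and_eq_true, List.all_eq_true] at h2
  have h3 := rep.hom_inv_apply nodup (fun l hl => Nat.le_of_ble_eq_true (h2.1 l hl)) q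
  have h4 : (φ (evalWord pres.val W))⁻¹ q = q := Fin.ext (h3.trans (Nat.eq_of_beq_eq_true h2.2))
  rw [SetLike.mem_coe, mem_stabilizer_iff, smul_def]
  exact (Equiv.Perm.inv_eq_iff_eq.mp h4).symm

/-- The subgroup of type G₂. -/
abbrev Hs : Subgroup pres.Gp := pres.sub Suz.H.sel

/-- The Hall-Janko subgroup. -/
abbrev J : Subgroup pres.Gp := pres.sub Suz.J2.sel

theorem J_le : J ≤ Hs := pres.sub_mono (by decide)

theorem J_eq : J = wordsSub ohWords := by
  rw [J, pres.sub_words]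
  rfl

theorem Hs_eq : Hs = wordsSub Suz.Rep.ws := by
  rw [Hs, pres.sub_words]
  rfl

/-- The point fixed by the Hall-Janko subgroup. -/
noncomputable def p0 : Fin Suz.Rep.tbl.n := ⟨995, by decide⟩

/-- The map of presented groups. -/
def genMap : Steiner.J2.Gen → pres.Gp
  | .a => PresentedGroup.of .a
  | .b => PresentedGroup.of .b
  | .c => PresentedGroup.of .c
  | .d => PresentedGroup.of .d
  | .e => PresentedGroup.of .e

theorem genMap_val {l : ℕ} (hl : l < 5) :
    letterVal Steiner.J2.pres.gens genMap l = pres.val l := by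
  interval_cases l <;> rfl

theorem genMap_eval : ∀ W : List ℕ, (∀ l ∈ W, l < 5) →
    evalWord (letterVal Steiner.J2.pres.gens genMap) W = evalWord pres.val W
  | [], _ => rfl
  | l :: W, h => by
    show letterVal _ genMap l * evalWord _ W = pres.val l * evalWord _ W
    rw [genMap_val (h l List.mem_cons_self), genMap_eval W fun x hx => h x (List.mem_cons_of_mem _ hx)]

theorem rels_sub : Steiner.J2.pres.relWords.all (fun W => W.all (fun l => Nat.blt l 5) &&
    decide (W ∈ pres.relWords)) = true := by decide +kernel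

/-- The homomorphism onto the Hall-Janko subgroup. -/
noncomputable def jHom : Steiner.J2.pres.Gp →* pres.Gp :=
  PresentedGroup.toGroup (Steiner.J2.pres.kills genMap fun W hW => by
    have h := List.all_eq_true.mp rels_sub W hW
    simp only [Bool.and_eq_true, List.all_eq_true, decide_eq_true_eq] at h
    rw [genMap_eval W fun l hl => Nat.le_of_ble_eq_true (h.1 l hl)]
    exact pres.rel_val W h.2)

theorem jHom_of (x : Steiner.J2.Gen) : jHom (PresentedGroup.of x) = genMap x :=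
  PresentedGroup.toGroup.of _

theorem jHom_range : jHom.range = J := by
  rw [MonoidHom.range_eq_map, ← PresentedGroup.closure_range_of, MonoidHom.map_closure, J,
    pres.sub_eq_closure]
  congr 1
  ext g
  simp only [Set.mem_image, Set.mem_range, exists_exists_eq_and, jHom_of]
  constructor
  · rintro ⟨x, rfl⟩
    show _ ∈ List.map pres.val Suz.J2.sel
    cases x
    exacts [List.mem_map.mpr ⟨0, by decide, rfl⟩, List.mem_map.mpr ⟨1, by decide, rfl⟩,
      List.mem_map.mpr ⟨2, by decide, rfl⟩, List.mem_map.mpr ⟨3, by decide, rfl⟩,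
      List.mem_map.mpr ⟨4, by decide, rfl⟩]
  · intro hg
    obtain ⟨l, hl, rfl⟩ := List.mem_map.mp hg
    simp only [Suz.J2.sel, List.mem_cons, List.not_mem_nil, or_false] at hl
    rcases hl with rfl | rfl | rfl | rfl | rfl
    exacts [⟨.a, rfl⟩, ⟨.b, rfl⟩, ⟨.c, rfl⟩, ⟨.d, rfl⟩, ⟨.e, rfl⟩]

theorem jHom_injective : Function.Injective jHom := by
  rw [← MonoidHom.ker_eq_bot_iff]
  rcases Steiner.J2.simple.eq_bot_or_eq_top_of_normal jHom.ker inferInstance with h | h
  · exact h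
  exfalso
  have h1 : jHom (PresentedGroup.of .a) = 1 := by
    rw [← MonoidHom.mem_ker, h]; trivial
  have h2 : φ (pres.val 0) = 1 := by
    rw [show pres.val 0 = 1 from (jHom_of .a).symm.trans h1, map_one]
  have h3 : ∀ i : Fin Suz.Rep.tbl.n, Suz.Rep.tbl.at' i 0 = i := fun i => by
    rw [← rep.gen_apply nodup (by decide) i]
    show ((φ (pres.val 0) i : Fin _) : ℕ) = i
    rw [h2]
    rfl
  have h4 : allRange (fun i => Nat.beq (Suz.Rep.tbl.at' i 0) i) 0 1782 = false := by decide +kernel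
  have h5 : ∀ a c : ℕ, a + c ≤ 1782 →
      allRange (fun i => Nat.beq (Suz.Rep.tbl.at' i 0) i) a c = true := by
    intro a c
    induction c generalizing a with
    | zero => intro _; rfl
    | succ c ih =>
      intro hc
      show Bool.rec (motive := fun _ => Bool) false _ (Nat.beq (Suz.Rep.tbl.at' a 0) a) = true
      rw [h3 ⟨a, by show a < 1782; omega⟩, Nat.beq_refl]
      exact ih (a + 1) (by omega)
  rw [h5 0 1782 le_rfl] at h4
  exact Bool.noConfusion h4

/-- The isomorphism with the Hall-Janko group. -/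
theorem J_iso : Nonempty (J ≃* Cfsg.Spor.J2) :=
  ⟨((MulEquiv.subgroupCongr jHom_range).symm.trans
    (MonoidHom.ofInjective jHom_injective).symm).trans Steiner.Ico.presEquiv⟩

theorem J_card : Nat.card J = 604800 := by
  rw [← jHom_range, ← Nat.card_congr (MonoidHom.ofInjective jHom_injective).toEquiv]
  exact Steiner.J2.card_eq.1

theorem J_fix : J ≤ stabilizer pres.Gp p0 := J_eq.symm ▸ fixes (by decide +kernel)

theorem lab_h : allRange (fun i => (Nat.beq (Suz.Rep.orb.getLab i) 2 == Nat.blt (oh.getLab i) 3) &&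
    ((Nat.beq (oh.getLab i) 1 == Nat.blt (oa.getLab i) 3) &&
     (Nat.beq (oh.getLab i) 2 == Nat.blt (ob.getLab i) 6))) 0 1782 = true := by decide +kernel

theorem beq_blt_iff {a c b m : ℕ} (h : (Nat.beq a c == Nat.blt b m) = true) : a = c ↔ b < m := by
  rw [beq_iff_eq] at h
  refine ⟨fun ha => ?_, fun hb => ?_⟩
  · subst ha
    rw [Nat.beq_refl] at h
    exact Nat.le_of_ble_eq_true h.symm
  · rw [show Nat.blt b m = true from Nat.ble_eq_true_of_le hb] at h
    exact Nat.eq_of_beq_eq_true h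

theorem lab_spec (i : Fin Suz.Rep.tbl.n) :
    (Suz.Rep.orb.getLab i = 2 ↔ oh.getLab i < 3) ∧ (oh.getLab i = 1 ↔ oa.getLab i < 3) ∧
      (oh.getLab i = 2 ↔ ob.getLab i < 6) := by
  have hi : (i : ℕ) < 0 + 1782 := lt_of_lt_of_eq i.2 (show Suz.Rep.tbl.n = 0 + 1782 from rfl)
  have h := allRange_spec lab_h i (Nat.zero_le _) hi
  simp only [Bool.and_eq_true] at h
  exact ⟨beq_blt_iff h.1, beq_blt_iff h.2.1, beq_blt_iff h.2.2⟩

theorem orbit_Hs (x : Fin Suz.Rep.tbl.n) :
    (∃ g ∈ Hs, g • p0 = x) ↔ oh.getLab x < 3 := by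
  rw [← (lab_spec x).1, Hs_eq]
  have hsz : okData Suz.Rep.orb Suz.Rep.ws Suz.Rep.roots [1, 1365, 416] = true := by decide +kernel
  obtain ⟨r, -, hr⟩ := conn_of_ok hsz (c := 2) (by decide +kernel)
  obtain ⟨k, hk, hkp⟩ := (hr p0).mp (by decide +kernel)
  rw [hr x, ← hkp]
  constructor
  · rintro ⟨g, hg, rfl⟩
    exact ⟨g * k, mul_mem hg hk, mul_smul _ _ _⟩
  · rintro ⟨g, hg, rfl⟩
    exact ⟨g * k⁻¹, mul_mem hg (inv_mem hk), by rw [mul_smul, inv_smul_smul]⟩

theorem orbit_J {c : ℕ} (hc : c < 3) (q : Fin Suz.Rep.tbl.n) (hq : oh.getLab q = c)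
    (x : Fin Suz.Rep.tbl.n) : (∃ g ∈ J, g • q = x) ↔ oh.getLab x = c := by
  obtain ⟨r, -, hr⟩ := conn_of_ok oh_ok (c := c) (by simpa [ohRoots] using hc)
  rw [J_eq]
  obtain ⟨k, hk, hkq⟩ := (hr q).mp hq
  rw [hr x, ← hkq]
  constructor
  · rintro ⟨g, hg, rfl⟩
    exact ⟨g * k, mul_mem hg hk, mul_smul _ _ _⟩
  · rintro ⟨g, hg, rfl⟩
    exact ⟨g * k⁻¹, mul_mem hg (inv_mem hk), by rw [mul_smul, inv_smul_smul]⟩

/-- The Hall-Janko subgroup inside the group of type G₂. -/
noncomputable abbrev J' : Subgroup Hs := stabilizer Hs p0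

theorem J'_eq : J' = J.subgroupOf Hs := by
  have := Suz.finite
  symm
  refine SetLike.coe_injective (Set.eq_of_subset_of_ncard_le (fun g hg => J_fix hg) ?_ (Set.toFinite _))
  show Nat.card J' ≤ Nat.card (J.subgroupOf Hs)
  rw [Nat.card_congr (Subgroup.subgroupOfEquivOfLe J_le).toEquiv, J_card]
  have hH : Nat.card Hs = 251596800 := by rw [Hs, Suz.stab_eq.1]; exact Suz.stab_card
  have hi : J'.index = 416 := by
    rw [index_stabilizer]
    have : orbit Hs p0 = {i : Fin Suz.Rep.tbl.n | oh.getLab (i : ℕ) ∈ Finset.range 3} := by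
      ext x
      simp only [Set.mem_ofPred_eq, Finset.mem_range]
      rw [← orbit_Hs]
      exact ⟨fun ⟨g, hg⟩ => ⟨g, g.2, hg⟩, fun ⟨g, hg, h⟩ => ⟨⟨g, hg⟩, h⟩⟩
    rw [this, ncard_union_classes _ (fun c => ohSizes.getD c 0) _ fun c hc =>
      size_of_ok oh_ok (by simpa [ohRoots] using Finset.mem_range.mp hc)]
    decide
  have h := J'.card_mul_index
  rw [hi, hH] at h
  omega

theorem J'_iso : Nonempty (J' ≃* Cfsg.Spor.J2) := by
  obtain ⟨e⟩ := J_iso
  exact ⟨(MulEquiv.subgroupCongr J'_eq).trans ((Subgroup.subgroupOfEquivOfLe J_le).trans e)⟩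

theorem J'_coatom : IsCoatom J' := by
  refine isCoatom_stabilizer p0 (fun i => oh.getLab i) 3 (fun c => ohSizes.getD c 0) (fun x => ?_)
    (fun c hc => size_of_ok oh_ok hc) (fun c hc => ?_) (by decide +kernel) rfl (by decide) (by decide)
    (by decide +kernel)
  · rw [← orbit_Hs]
    exact ⟨fun ⟨g, hg⟩ => ⟨g, g.2, hg⟩, fun ⟨g, hg, h⟩ => ⟨⟨g, hg⟩, h⟩⟩
  · obtain ⟨r, -, hr⟩ := conn_of_ok oh_ok (c := c) hc
    refine ⟨r, fun x hx => ?_⟩
    obtain ⟨k, hk, rfl⟩ := (hr x).mp hx
    have hk' : k ∈ J := by rw [J_eq]; exact hk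
    exact ⟨⟨k, J_le hk'⟩, J_fix hk', rfl⟩

theorem point_coatom {c m : ℕ} (hc : c < 3) {O : OrbitData} {ws : List (List ℕ)} {roots sizes : List ℕ}
    (h : okData O ws roots sizes = true) (hlab : ∀ i : Fin Suz.Rep.tbl.n, oh.getLab i = c ↔ O.getLab i < m)
    (hm : m = roots.length) (q : Fin Suz.Rep.tbl.n) (hq : O.getLab q = 0) (hqc : oh.getLab q = c)
    (hws : wordsSub ws ≤ J ⊓ stabilizer pres.Gp q) (h1 : sizes.getD 0 0 = 1) (hm1 : 1 < m)
    (hpos : sizes.getD 1 0 ≠ 0)
    (hdiv : ∀ A ∈ (Finset.range m).powerset, 0 ∈ A →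
      (∑ c ∈ A, sizes.getD c 0) ∣ (∑ c ∈ Finset.range m, sizes.getD c 0) →
        A = {0} ∨ A = Finset.range m) :
    IsCoatom (stabilizer J' q) := by
  subst hm
  refine isCoatom_stabilizer q (fun i => O.getLab i) _ (fun c => sizes.getD c 0) (fun x => ?_)
    (fun c hc => size_of_ok h hc) (fun c' hc' => ?_) hq h1 hm1 hpos hdiv
  · rw [← hlab, ← orbit_J hc q hqc]
    constructor
    · rintro ⟨g, rfl⟩
      exact ⟨((g : Hs) : pres.Gp), (SetLike.ext_iff.mp J'_eq (g : Hs)).mp g.2, rfl⟩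
    · rintro ⟨g, hg, rfl⟩
      exact ⟨⟨⟨g, J_le hg⟩, J_fix hg⟩, rfl⟩
  · obtain ⟨r, -, hr⟩ := conn_of_ok h (c := c') hc'
    refine ⟨r, fun x hx => ?_⟩
    obtain ⟨k, hk, rfl⟩ := (hr x).mp hx
    exact ⟨⟨⟨k, J_le (hws hk).1⟩, J_fix (hws hk).1⟩, (hws hk).2, rfl⟩

theorem words_le {ws : List (List ℕ)} (h : ws.all (fun W => W.all fun l => Nat.blt l 5) = true) :
    wordsSub ws ≤ J := by
  rw [wordsSub, Subgroup.closure_le]
  rintro _ ⟨W, hW, rfl⟩
  have h2 := List.all_eq_true.mp (List.all_eq_true.mp h W hW)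
  rw [← genMap_eval W fun l hl => Nat.le_of_ble_eq_true (h2 l hl)]
  rw [← jHom_range]
  refine ⟨evalWord Steiner.J2.pres.val W, ?_⟩
  rw [Glue.evalWord_hom]
  congr 1
  funext l
  unfold InvPres.val letterVal
  cases Steiner.J2.pres.gens[l]? with
  | none => exact map_one _
  | some x => exact jHom_of x

theorem extreme (p : Fin Suz.Rep.tbl.n) (hp : p ∈ orbit Hs p0) (hne : p ≠ p0) :
    IsCoatom (stabilizer J' p) := by
  obtain ⟨g, rfl⟩ := hp
  have hlt : oh.getLab ((g • p0 : Fin Suz.Rep.tbl.n) : ℕ) < 3 := (orbit_Hs _).mp ⟨g, g.2, rfl⟩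
  have mem : ∀ (c : ℕ), c < 3 → ∀ q : Fin Suz.Rep.tbl.n, oh.getLab q = c →
      oh.getLab ((g • p0 : Fin Suz.Rep.tbl.n) : ℕ) = c → g • p0 ∈ orbit J' q := by
    intro c hc q hq hx
    obtain ⟨j, hj, hjq⟩ := (orbit_J hc q hq _).mpr hx
    exact ⟨⟨⟨j, J_le hj⟩, J_fix hj⟩, hjq⟩
  rcases (by omega : oh.getLab ((g • p0 : Fin Suz.Rep.tbl.n) : ℕ) = 0 ∨
    oh.getLab ((g • p0 : Fin Suz.Rep.tbl.n) : ℕ) = 1 ∨
    oh.getLab ((g • p0 : Fin Suz.Rep.tbl.n) : ℕ) = 2) with h | h | h
  · exfalso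
    obtain ⟨j, hj, hjq⟩ := (orbit_J (c := 0) (by norm_num) p0 (by decide +kernel) _).mpr h
    exact hne (hjq.symm.trans (mem_stabilizer_iff.mp (J_fix hj)))
  · refine isCoatom_stabilizer_of_mem_orbit (q := (⟨47, by decide⟩ : Fin Suz.Rep.tbl.n)) ?_
      (mem 1 (by norm_num) _ (by decide +kernel) h)
    exact point_coatom (by norm_num) oa_ok (fun i => (lab_spec i).2.1) rfl _ (by decide +kernel)
      (by decide +kernel) (le_inf (words_le (by decide +kernel)) (fixes (by decide +kernel))) rfl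
      (by decide) (by decide) (by decide +kernel)
  · refine isCoatom_stabilizer_of_mem_orbit (q := (⟨81, by decide⟩ : Fin Suz.Rep.tbl.n)) ?_
      (mem 2 (by norm_num) _ (by decide +kernel) h)
    exact point_coatom (by norm_num) ob_ok (fun i => (lab_spec i).2.2) rfl _ (by decide +kernel)
      (by decide +kernel) (le_inf (words_le (by decide +kernel)) (fixes (by decide +kernel))) rfl
      (by decide) (by decide) (by decide +kernel)

/-- The statement for the subgroup of type G₂. -/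
theorem key : ∃ H : Subgroup Hs, IsCoatom H ∧ Nonempty (H ≃* Cfsg.Spor.J2) ∧
    ∀ x : Hs, x ∉ H → IsCoatom ((H ⊓ H.map (MulAut.conj x).toMonoidHom).subgroupOf H) := by
  refine ⟨J', J'_coatom, J'_iso, fun x hx => ?_⟩
  rw [← stabilizer_smul_eq_stabilizer_map_conj, Subgroup.inf_subgroupOf_left]
  exact extreme (x • p0) (mem_orbit _ _) fun h => hx (mem_stabilizer_iff.mpr h)

end Cfsg.Agent.G24J2
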